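import Mathlib
import Cfsg.Prelude.Def_Perm
set_option autoImplicit false
namespace H96.Elusive

theorem main (p s : ℕ) [Fact p.Prime] (hs : p = 2 ^ s - 1)
    (g : Equiv.Perm (GaloisField p 2)) (hg : g ∈ Cfsg.affineGroup (GaloisField p 2)) (hord : (orderOf g).Prime) :
    ∃ x ∈ Cfsg.affineGroup (GaloisField p 2), ∃ a b : ZMod p, a ≠ 0 ∧
      ∀ y : GaloisField p 2, (x * g * x⁻¹) y = algebraMap (ZMod p) (GaloisField p 2) a * y + algebraMap (ZMod p) (GaloisField p 2) b := by
  have hp : p.Prime := Fact.out
  obtain ⟨a, b, hgab⟩ := hg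
  by_cases ha : (a : GaloisField p 2) = 1
  · -- translation
    have hb : b ≠ 0 := by
      rintro rfl
      have : g = 1 := by
        ext x; rw [hgab, ha]; simp
      rw [this, orderOf_one] at hord
      exact Nat.not_prime_one hord
    let x : Equiv.Perm (GaloisField p 2) := Equiv.mulLeft₀ b⁻¹ (inv_ne_zero hb)
    have hx : ∀ y, x y = b⁻¹ * y := fun y => rfl
    refine ⟨x, ⟨Units.mk0 b⁻¹ (inv_ne_zero hb), 0, fun y => ?_⟩, 1, 1, one_ne_zero, fun y => ?_⟩
    · rw [hx]; simp
    · have hxi : x⁻¹ y = b * y := by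
        rw [Equiv.Perm.inv_eq_iff_eq, hx, inv_mul_cancel_left₀ hb]
      rw [Equiv.Perm.mul_apply, Equiv.Perm.mul_apply, hxi, hgab, hx, ha]
      simp [mul_add, hb]
  · -- a ≠ 1
    have h1a : (1 : GaloisField p 2) - a ≠ 0 := fun h => ha (sub_eq_zero.mp h).symm
    let c : GaloisField p 2 := b / (1 - a)
    have hc : (a : GaloisField p 2) * c + b = c := by
      have : b = c * (1 - a) := by rw [div_mul_cancel₀ _ h1a]
      rw [this]; ring
    let x : Equiv.Perm (GaloisField p 2) := Equiv.addRight (-c)
    have hx : ∀ y, x y = y - c := fun y => by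
      change y + -c = y - c; ring
    have hxi : ∀ y, x⁻¹ y = y + c := fun y => by
      rw [Equiv.Perm.inv_eq_iff_eq, hx]; ring
    have hconj : ∀ y, (x * g * x⁻¹) y = a * y := fun y => by
      rw [Equiv.Perm.mul_apply, Equiv.Perm.mul_apply, hxi, hgab, hx]
      linear_combination hc
    -- order
    have hpow : ∀ (n : ℕ) (y : GaloisField p 2), ((x * g * x⁻¹) ^ n) y = (a : GaloisField p 2) ^ n * y := by
      intro n
      induction n with
      | zero => intro y; simp
      | succ n ih => intro y; rw [pow_succ, Equiv.Perm.mul_apply, hconj, ih]; ring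
    have hap : (a : GaloisField p 2) ^ (orderOf g) = 1 := by
      have h1 : (x * g * x⁻¹) ^ orderOf g = 1 := by
        rw [conj_pow, pow_orderOf_eq_one]; simp
      have := hpow (orderOf g) 1
      rw [h1] at this
      simpa using this.symm
    have hq : (a : GaloisField p 2) ^ (p ^ 2 - 1) = 1 := by
      have hfin : Fintype (GaloisField p 2) := Fintype.ofFinite _
      have h := FiniteField.pow_card_sub_one_eq_one (a : GaloisField p 2) a.ne_zero
      have hcard : Fintype.card (GaloisField p 2) = p ^ 2 := by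
        rw [← Nat.card_eq_fintype_card, GaloisField.card p 2 (by norm_num)]
      rwa [hcard] at h
    have hs0 : s ≠ 0 := by
      rintro rfl
      rw [pow_zero] at hs
      exact hp.ne_zero hs
    have h2 : 2 ∣ p - 1 := by
      obtain ⟨t, rfl⟩ : ∃ t, s = t + 1 := ⟨s - 1, by omega⟩
      have : p - 1 = 2 * (2 ^ t - 1) := by
        rw [hs, pow_succ]
        have := Nat.one_le_two_pow (n := t)
        omega
      rw [this]; exact dvd_mul_right _ _
    have hord_a : orderOf (a : GaloisField p 2) = orderOf g := by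
      have : Fact (orderOf g).Prime := ⟨hord⟩
      exact orderOf_eq_prime hap ha
    have hdvd : orderOf g ∣ p ^ 2 - 1 := by
      rw [← hord_a]; exact orderOf_dvd_of_pow_eq_one hq
    have hfac : p ^ 2 - 1 = (p - 1) * 2 ^ s := by
      have : 2 ^ s = p + 1 := by
        have := Nat.one_le_two_pow (n := s)
        omega
      rw [this]
      obtain ⟨k, hk⟩ : ∃ k, p = k + 1 := ⟨p - 1, by have := hp.pos; omega⟩
      rw [hk]; simp; ring_nf; omega
    rw [hfac] at hdvd
    have hdvd2 : orderOf g ∣ p - 1 := by
      rcases hord.dvd_mul.mp hdvd with h | h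
      · exact h
      · have := hord.dvd_of_dvd_pow h
        exact this.trans h2
    have hap1 : (a : GaloisField p 2) ^ p = a := by
      have : (a : GaloisField p 2) ^ (p - 1) = 1 := by
        rw [← hord_a] at hdvd2
        exact orderOf_dvd_iff_pow_eq_one.mp hdvd2
      calc (a : GaloisField p 2) ^ p = (a : GaloisField p 2) ^ (p - 1 + 1) := by
            rw [Nat.sub_add_cancel hp.one_le]
        _ = a := by rw [pow_succ, this, one_mul]
    have hmem : (a : GaloisField p 2) ∈ (⊥ : Subfield (GaloisField p 2)) := by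
      exact (Subfield.mem_bot_iff_pow_eq_self (GaloisField p 2) p).mpr hap1
    have hle : (⊥ : Subfield (GaloisField p 2)) ≤ (algebraMap (ZMod p) (GaloisField p 2)).fieldRange := bot_le
    obtain ⟨a', ha'⟩ := hle hmem
    refine ⟨x, ⟨1, -c, fun y => by rw [hx]; simp; ring⟩, a', 0, ?_, fun y => ?_⟩
    · rintro rfl
      rw [map_zero] at ha'
      exact a.ne_zero ha'.symm
    · rw [hconj, ha', map_zero, add_zero]

end H96.Elusive
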