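import Mathlib
set_option autoImplicit false

namespace H96.TransPrime


theorem dvd_stab_index {G Ω : Type*} [Group G] [Finite G] [MulAction G Ω] [Finite Ω]
    (htr : MulAction.IsPretransitive G Ω) (p a : ℕ) [Fact p.Prime] (P : Sylow p G) (ω : Ω)
    (h : p ^ a ∣ Nat.card Ω) : p ^ a ∣ (MulAction.stabilizer (P : Subgroup G) ω).index := by
  have h1 : Nat.card Ω * Nat.card (MulAction.stabilizer G ω) = Nat.card G := by
    rw [← MulAction.index_stabilizer_of_transitive G ω, Subgroup.index_mul_card]
  have h2 : (P : Subgroup G).index * Nat.card P = Nat.card G := Subgroup.index_mul_card _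
  have h3 : (MulAction.stabilizer (P : Subgroup G) ω).index *
    Nat.card (MulAction.stabilizer (P : Subgroup G) ω) = Nat.card P := Subgroup.index_mul_card _
  have h4 : Nat.card (MulAction.stabilizer (P : Subgroup G) ω) ∣ Nat.card (MulAction.stabilizer G ω) := by
    let f : MulAction.stabilizer (P : Subgroup G) ω →* MulAction.stabilizer G ω :=
      { toFun := fun x => ⟨((x : (P : Subgroup G)) : G), by
          have := x.2
          rw [MulAction.mem_stabilizer_iff] at this ⊢
          exact this⟩
        map_one' := rfl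
        map_mul' := fun _ _ => rfl }
    apply Subgroup.card_dvd_of_injective f
    intro x y hxy
    have := congrArg (fun z : MulAction.stabilizer G ω => (z : G)) hxy
    apply Subtype.ext
    apply Subtype.ext
    exact this
  obtain ⟨m, hm⟩ := h4
  have hpos : 0 < Nat.card (MulAction.stabilizer (P : Subgroup G) ω) := Nat.card_pos
  have h5 : (MulAction.stabilizer (P : Subgroup G) ω).index * (P : Subgroup G).index = Nat.card Ω * m := by
    apply Nat.eq_of_mul_eq_mul_right hpos
    calc _ = (P : Subgroup G).index * ((MulAction.stabilizer (P : Subgroup G) ω).index * Nat.card (MulAction.stabilizer (P : Subgroup G) ω)) := by ring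
      _ = Nat.card G := by rw [h3, h2]
      _ = _ := by rw [← h1, hm]; ring
  have h6 : p ^ a ∣ (MulAction.stabilizer (P : Subgroup G) ω).index * (P : Subgroup G).index := by
    rw [h5]; exact h.mul_right m
  have hcop : Nat.Coprime (p ^ a) (P : Subgroup G).index := by
    apply Nat.Coprime.pow_left
    rw [Nat.Prime.coprime_iff_not_dvd Fact.out]
    exact P.not_dvd_index
  exact hcop.dvd_of_dvd_mul_right h6

theorem primepow {G Ω : Type*} [Group G] [Finite G] [MulAction G Ω] [FaithfulSMul G Ω] [Fintype Ω] (htr : MulAction.IsPretransitive G Ω)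
    (p k : ℕ) (hp : p.Prime) (hk : 1 ≤ k) (hΩ : Fintype.card Ω = p ^ k) :
    ∃ g : G, orderOf g = p ∧ ∀ ω : Ω, g • ω ≠ ω := by
  have := Fact.mk hp
  have hne : Nonempty Ω := by
    apply Fintype.card_pos_iff.mp; rw [hΩ]; exact pow_pos hp.pos _
  obtain ⟨P⟩ : Nonempty (Sylow p G) := inferInstance
  have hcardΩ : Nat.card Ω = p ^ k := by rw [Nat.card_eq_fintype_card, hΩ]
  have hidx : ∀ ω : Ω, (MulAction.stabilizer (P : Subgroup G) ω).index = p ^ k := by
    intro ω
    have h1 := dvd_stab_index htr p k P ω (by rw [hcardΩ])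
    have h2 : (MulAction.stabilizer (P : Subgroup G) ω).index ≤ Nat.card Ω := by
      rw [MulAction.index_stabilizer]
      exact Set.ncard_le_card _
    rw [hcardΩ] at h2
    exact le_antisymm h2 (Nat.le_of_dvd (Nat.pos_of_ne_zero Subgroup.index_ne_zero_of_finite) h1)
  have htrP : ∀ ω ω' : Ω, ∃ g : (P : Subgroup G), g • ω = ω' := by
    intro ω ω'
    have h := hidx ω
    rw [MulAction.index_stabilizer, ← hcardΩ] at h
    have h' : MulAction.orbit (P : Subgroup G) ω = Set.univ := by
      rw [← Set.ncard_univ] at h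
      exact Set.eq_of_subset_of_ncard_le (Set.subset_univ _) h.ge
    have : ω' ∈ MulAction.orbit (P : Subgroup G) ω := by rw [h']; trivial
    exact this
  have hPnt : Nontrivial (P : Subgroup G) := by
    obtain ⟨ω⟩ := hne
    by_contra hcon
    rw [not_nontrivial_iff_subsingleton] at hcon
    have := hidx ω
    have h1 : (MulAction.stabilizer (P : Subgroup G) ω).index = 1 := by
      rw [Subgroup.index_eq_one]
      exact Subsingleton.elim _ _
    rw [h1] at this
    have : 1 < p ^ k := Nat.one_lt_pow (by omega) hp.one_lt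
    omega
  have hc : Nontrivial (Subgroup.center (P : Subgroup G)) := P.isPGroup'.center_nontrivial
  have hcp : IsPGroup p (Subgroup.center (P : Subgroup G)) := P.isPGroup'.to_subgroup _
  obtain ⟨n, hn0, hn⟩ := hcp.nontrivial_iff_card.mp hc
  have : p ∣ Nat.card (Subgroup.center (P : Subgroup G)) := by
    rw [hn]; exact dvd_pow_self p (by omega)
  obtain ⟨z, hz⟩ := exists_prime_orderOf_dvd_card' p this
  refine ⟨((z : (P : Subgroup G)) : G), ?_, ?_⟩
  · rw [Subgroup.orderOf_coe, Subgroup.orderOf_coe, hz]
  · intro ω hω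
    have : ((z : (P : Subgroup G)) : G) = 1 := by
      apply FaithfulSMul.eq_of_smul_eq_smul (α := Ω)
      intro ω'
      obtain ⟨g, hg⟩ := htrP ω ω'
      rw [one_smul, ← hg]
      have hcomm := Subgroup.mem_center_iff.mp z.2 g
      change ((z : (P : Subgroup G)) : (P : Subgroup G)) • (g • ω) = g • ω
      rw [← mul_smul, ← hcomm, mul_smul]
      congr 1
    have h1 : z = 1 := by
      apply Subtype.ext; apply Subtype.ext; exact this
    rw [h1, orderOf_one] at hz
    exact hp.one_lt.ne hz

theorem smallmul {G Ω : Type*} [Group G] [Finite G] [MulAction G Ω] [FaithfulSMul G Ω] [Fintype Ω] (htr : MulAction.IsPretransitive G Ω)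
    (p m : ℕ) (hp : p.Prime) (hm : 1 ≤ m) (hmp : m ≤ p) (hΩ : Fintype.card Ω = m * p) :
    ∃ g : G, orderOf g = p ∧ ∀ ω : Ω, g • ω ≠ ω := by
  classical
  rcases eq_or_lt_of_le hmp with rfl | hlt
  · exact primepow htr m 2 hp (by norm_num) (by rw [hΩ, sq])
  have := Fact.mk hp
  obtain ⟨P⟩ : Nonempty (Sylow p G) := inferInstance
  have hcardΩ : Nat.card Ω = m * p := by rw [Nat.card_eq_fintype_card, hΩ]
  have hidx : ∀ ω : Ω, (MulAction.stabilizer (P : Subgroup G) ω).index = p := by
    intro ω
    have h1 := dvd_stab_index htr p 1 P ω (by rw [hcardΩ, pow_one]; exact dvd_mul_left _ _)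
    rw [pow_one] at h1
    have h2 : (MulAction.stabilizer (P : Subgroup G) ω).index ≤ Nat.card Ω := by
      rw [MulAction.index_stabilizer]
      exact Set.ncard_le_card _
    rw [hcardΩ] at h2
    obtain ⟨n, hn⟩ := (P.isPGroup').index (MulAction.stabilizer (P : Subgroup G) ω)
    have hlt2 : p ^ n < p ^ 2 := by rw [← hn]; nlinarith
    have hn2 : n < 2 := (Nat.pow_lt_pow_iff_right hp.one_lt).mp hlt2
    have hn1 : n ≠ 0 := by
      rintro rfl
      rw [pow_zero] at hn
      rw [hn] at h1
      exact hp.one_lt.ne' (Nat.dvd_one.mp h1)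
    have : n = 1 := by omega
    rw [hn, this, pow_one]
  have hnorm : ∀ ω : Ω, (MulAction.stabilizer (P : Subgroup G) ω).Normal := by
    intro ω
    apply Subgroup.normal_of_index_eq_minFac_card
    rw [hidx ω]
    obtain ⟨n, hn⟩ := (IsPGroup.iff_card).mp P.isPGroup'
    have hn0 : n ≠ 0 := by
      rintro rfl
      have h3 := Subgroup.index_mul_card (MulAction.stabilizer (P : Subgroup G) ω)
      rw [hidx ω, hn, pow_zero] at h3
      have := Nat.eq_one_of_mul_eq_one_right h3
      have := hp.one_lt
      omega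
    rw [hn, hp.pow_minFac hn0]
  have horb : ∀ ω : Ω, (MulAction.orbit (P : Subgroup G) ω).ncard = p := by
    intro ω
    rw [← MulAction.index_stabilizer, hidx]
  -- some g in P fixes nothing
  have hex : ∃ g : (P : Subgroup G), ∀ ω : Ω, g • ω ≠ ω := by
    by_contra hcon
    push Not at hcon
    have hfix : ∀ g : (P : Subgroup G), p ≤ (Finset.univ.filter (fun ω : Ω => g • ω = ω)).card := by
      intro g
      obtain ⟨ω, hω⟩ := hcon g
      have ho := horb ω
      rw [Set.ncard_eq_toFinset_card'] at ho
      refine ho.symm.le.trans ?_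
      apply Finset.card_le_card
      intro ω' hω'
      rw [Set.mem_toFinset] at hω'
      obtain ⟨h, rfl⟩ := hω'
      simp only [Finset.mem_filter, Finset.mem_univ, true_and]
      have hg : g ∈ MulAction.stabilizer (P : Subgroup G) ω := hω
      have h2 := (hnorm ω).conj_mem g hg h⁻¹
      rw [inv_inv, MulAction.mem_stabilizer_iff, mul_smul, mul_smul, inv_smul_eq_iff] at h2
      exact h2
    have : Fintype (P : Subgroup G) := Fintype.ofFinite _
    have hsum : ∑ g : (P : Subgroup G), (Finset.univ.filter (fun ω : Ω => g • ω = ω)).card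
        = ∑ ω : Ω, (Finset.univ.filter (fun g : (P : Subgroup G) => g • ω = ω)).card := by
      simp_rw [Finset.card_filter]
      exact Finset.sum_comm
    have hst : ∀ ω : Ω, p * (Finset.univ.filter (fun g : (P : Subgroup G) => g • ω = ω)).card
        = Nat.card (P : Subgroup G) := by
      intro ω
      rw [← Subgroup.index_mul_card (MulAction.stabilizer (P : Subgroup G) ω), hidx ω]
      congr 1
      rw [Nat.card_eq_fintype_card, Fintype.card_subtype]
      rfl
    have h1 : p * ∑ ω : Ω, (Finset.univ.filter (fun g : (P : Subgroup G) => g • ω = ω)).card = (m * p) * Nat.card (P : Subgroup G) := by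
      rw [Finset.mul_sum, Finset.sum_congr rfl (fun ω _ => hst ω), Finset.sum_const, Finset.card_univ, hΩ, smul_eq_mul]
    have h2 : Nat.card (P : Subgroup G) * p ≤ ∑ g : (P : Subgroup G), (Finset.univ.filter (fun ω : Ω => g • ω = ω)).card := by
      rw [Nat.card_eq_fintype_card, ← Finset.card_univ, ← smul_eq_mul, ← Finset.sum_const]
      exact Finset.sum_le_sum (fun g _ => hfix g)
    rw [hsum] at h2
    have hpos : 0 < Nat.card (P : Subgroup G) := Nat.card_pos
    have h3 : p * (Nat.card (P : Subgroup G) * p) ≤ (m * p) * Nat.card (P : Subgroup G) := by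
      rw [← h1]; exact Nat.mul_le_mul_left _ h2
    have h4 : p ≤ m := by
      have h5 : (p * Nat.card (P : Subgroup G)) * p ≤ (p * Nat.card (P : Subgroup G)) * m := by nlinarith
      exact Nat.le_of_mul_le_mul_left h5 (Nat.mul_pos hp.pos hpos)
    omega
  obtain ⟨g, hg⟩ := hex
  refine ⟨(g : G), ?_, fun ω hω => hg ω hω⟩
  have hgp : g ^ p = 1 := by
    have : ((g ^ p : (P : Subgroup G)) : G) = 1 := by
      apply FaithfulSMul.eq_of_smul_eq_smul (α := Ω)
      intro ω
      rw [one_smul]
      have := hnorm ω
      have h2 : g ^ (MulAction.stabilizer (P : Subgroup G) ω).index ∈ MulAction.stabilizer (P : Subgroup G) ω :=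
        Subgroup.pow_index_mem _ g
      rw [hidx ω] at h2
      exact h2
    exact Subtype.ext this
  rw [Subgroup.orderOf_coe]
  refine orderOf_eq_prime hgp ?_
  rintro rfl
  have : Nonempty Ω := by
    apply Fintype.card_pos_iff.mp; rw [hΩ]; exact Nat.mul_pos hm hp.pos
  obtain ⟨ω⟩ := this
  exact hg ω (one_smul _ _)

end H96.TransPrime
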